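import Groth.Agent.UnramGULib.Scheme
import Mathlib.AlgebraicGeometry.Morphisms.QuasiFinite
import Mathlib.AlgebraicGeometry.Properties

/-! Connected unramified schemes over geometrically unibranch bases. -/

set_option autoImplicit false
set_option linter.style.haveILetI false
set_option maxHeartbeats 1000000
universe u

open CategoryTheory AlgebraicGeometry

namespace UnramGULib

theorem injective_stalkMap_of_flat {X Y : Scheme.{u}} (g : X ⟶ Y) [Flat g] (x : X) :
    Function.Injective (g.stalkMap x) := by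
  algebraize [(g.stalkMap x).hom]
  have : Module.FaithfullyFlat (Y.presheaf.stalk (g x)) (X.presheaf.stalk x) :=
    @Module.FaithfullyFlat.of_flat_of_isLocalHom _ _ _ _ _ _ _ (Flat.stalkMap g x) (g.toLRSHom.prop x)
  exact ‹RingHom.FaithfullyFlat _›.injective

theorem injective_stalkMap_of_etale_nbhd {X Y : Scheme.{u}} (f : X ⟶ Y) (x : X)
    (h : ∃ U : X.Opens, x ∈ U ∧ Etale (U.ι ≫ f)) : Function.Injective (f.stalkMap x) := by
  obtain ⟨U, hx, hU⟩ := h
  haveI := hU
  have h1 := injective_stalkMap_of_flat (U.ι ≫ f) ⟨x, hx⟩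
  have e := Scheme.Hom.stalkMap_comp U.ι f ⟨x, hx⟩
  intro a b hab
  refine h1 ((ConcreteCategory.congr_hom e a).trans (Eq.trans ?_ (ConcreteCategory.congr_hom e b).symm))
  exact congrArg (U.ι.stalkMap ⟨x, hx⟩).hom hab

theorem exists_generization_of_flat {X Y : Scheme.{u}} (g : X ⟶ Y) [Flat g] (x : X) {y : Y} (hy : y ⤳ g x) :
    ∃ x' : X, x' ⤳ x ∧ g x' = y :=
  Flat.generalizingMap g hy

theorem finite_fibre_affine {X Y : Scheme.{u}} (f : X ⟶ Y) [LocallyOfFiniteType f] [FormallyUnramified f]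
    (W : Y.Opens) (hW : IsAffineOpen W) (V : X.Opens) (hV : IsAffineOpen V) (e : V ≤ f ⁻¹ᵁ W) (y : Y) :
    {z : X | z ∈ V ∧ f z = y}.Finite := by
  haveI : IsAffine (W : Scheme.{u}) := hW
  haveI : IsAffine (V : Scheme.{u}) := hV
  haveI : FormallyUnramified (f.resLE W V e ≫ W.ι) := by
    rw [Scheme.Hom.resLE_comp_ι]
    exact MorphismProperty.comp_mem @FormallyUnramified _ _ inferInstance inferInstance
  have hu := appLE_of_ι (P := @FormallyUnramified) f W hW V hV e (FormallyUnramified.of_comp _ W.ι)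
  have hft := f.finiteType_appLE hW hV e
  algebraize [(f.appLE W V e).hom]
  haveI : LocallyQuasiFinite (f.resLE W V e) :=
    resLE_of_appLE (P := @LocallyQuasiFinite) f W hW V hV e
      (show Algebra.QuasiFinite Γ(Y, W) Γ(X, V) from inferInstance)
  by_cases hy : y ∈ W
  · refine ((Scheme.Hom.finite_preimage_singleton (f.resLE W V e) ⟨y, hy⟩).image (fun z : V => (z : X))).subset ?_
    rintro z ⟨hz, hfz⟩
    refine ⟨⟨z, hz⟩, ?_, rfl⟩
    refine Subtype.ext ?_
    have := congrArg (fun φ : (V : Scheme.{u}) ⟶ Y => φ ⟨z, hz⟩) (Scheme.Hom.resLE_comp_ι f e)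
    exact this.trans hfz
  · refine Set.finite_empty.subset ?_
    rintro z ⟨hz, hfz⟩
    exact hy (hfz ▸ e hz)

theorem locallyQuasiFinite_of_unramified {X Y : Scheme.{u}} (f : X ⟶ Y) [LocallyOfFiniteType f]
    [FormallyUnramified f] : LocallyQuasiFinite f := by
  refine (HasRingHomProperty.iff_appLE (P := @LocallyQuasiFinite)).2 fun W V e => ?_
  have hu := HasRingHomProperty.appLE @FormallyUnramified f inferInstance W V e
  have hft := f.finiteType_appLE W.2 V.2 e
  algebraize [(f.appLE W.1 V.1 e).hom]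
  show Algebra.QuasiFinite Γ(Y, W) Γ(X, V)
  infer_instance

variable {X Y : Scheme.{u}} (f : X ⟶ Y) [IsIntegral Y] (hY : ∀ y : Y, CAlg2.IsGeomUnibranch (Y.presheaf.stalk y))
  [LocallyOfFiniteType f] [FormallyUnramified f]

theorem mem_dominated_iff (hY : ∀ y : Y, CAlg2.IsGeomUnibranch (Y.presheaf.stalk y)) (x : X) :
    (∃ x' : X, x' ⤳ x ∧ f x' = genericPoint Y) ↔ ∃ U : X.Opens, x ∈ U ∧ Etale (U.ι ≫ f) := by
  constructor
  · rintro ⟨x', h, hη⟩
    exact exists_etale_nbhd f x inferInstance (hY _) (injective_stalkMap_of_generization f h hη)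
      ⟨⊤, trivial, MorphismProperty.comp_mem @FormallyUnramified _ _ inferInstance inferInstance⟩
      (Or.inl inferInstance)
  · rintro ⟨U, hx, hU⟩
    haveI := hU
    obtain ⟨z, hz, hzη⟩ := exists_generization_of_flat (U.ι ≫ f) ⟨x, hx⟩ (y := genericPoint Y)
      (genericPoint_specializes _)
    exact ⟨z.1, hz.map U.ι.continuous, hzη⟩

theorem isClopen_dominated (hY : ∀ y : Y, CAlg2.IsGeomUnibranch (Y.presheaf.stalk y)) :
    IsClopen {x : X | ∃ x' : X, x' ⤳ x ∧ f x' = genericPoint Y} := by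
  refine ⟨?_, ?_⟩
  · rw [← isOpen_compl_iff, isOpen_iff_forall_mem_open]
    intro x hx
    obtain ⟨W, hW, hxW⟩ : ∃ W : Y.Opens, IsAffineOpen W ∧ f x ∈ W := by
      obtain ⟨_, ⟨W, hW, rfl⟩, hxW, -⟩ :=
        Y.isBasis_affineOpens.exists_subset_of_mem_open (Set.mem_univ (f x)) isOpen_univ
      exact ⟨W, hW, hxW⟩
    obtain ⟨V, hV, hxV, hVU⟩ : ∃ V : X.Opens, IsAffineOpen V ∧ x ∈ V ∧ V ≤ f ⁻¹ᵁ W := by
      obtain ⟨_, ⟨V, hV, rfl⟩, hxV, hVU⟩ :=
        X.isBasis_affineOpens.exists_subset_of_mem_open (show x ∈ f ⁻¹ᵁ W from hxW) (f ⁻¹ᵁ W).2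
      exact ⟨V, hV, hxV, hVU⟩
    have hfin := finite_fibre_affine f W hW V hV hVU (genericPoint Y)
    refine ⟨(V : Set X) \ ⋃ z ∈ {z : X | z ∈ V ∧ f z = genericPoint Y}, closure {z}, ?_,
      V.2.sdiff (hfin.isClosed_biUnion fun z _ => isClosed_closure), hxV, ?_⟩
    · rintro z ⟨hzV, hz⟩ ⟨x', hs, hη⟩
      exact hz (Set.mem_biUnion (x := x') ⟨hs.mem_open V.2 hzV, hη⟩ (specializes_iff_mem_closure.1 hs))
    · intro hmem
      obtain ⟨z, hz, hzx⟩ := Set.mem_iUnion₂.1 hmem
      exact hx ⟨z, specializes_iff_mem_closure.2 hzx, hz.2⟩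
  · rw [isOpen_iff_forall_mem_open]
    intro x hx
    obtain ⟨U, hxU, hU⟩ := (mem_dominated_iff f hY x).1 hx
    exact ⟨U, fun z hz => (mem_dominated_iff f hY z).2 ⟨U, hz, hU⟩, U.2, hxU⟩

theorem global (hY : ∀ y : Y, CAlg2.IsGeomUnibranch (Y.presheaf.stalk y)) [ConnectedSpace X]
    (hη : ∃ x : X, f x = genericPoint Y) :
    Etale f ∧ IsIntegral X ∧ ∀ x : X, CAlg2.IsGeomUnibranch (X.presheaf.stalk x) := by
  classical
  obtain ⟨x₀, hx₀⟩ := hη
  have huniv : ∀ x : X, ∃ x' : X, x' ⤳ x ∧ f x' = genericPoint Y := fun x => by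
    have := (isClopen_dominated f hY).eq_univ ⟨x₀, x₀, specializes_rfl, hx₀⟩
    exact Set.eq_univ_iff_forall.1 this x
  choose U hxU hU using fun x => (mem_dominated_iff f hY x).1 (huniv x)
  have het : Etale f := by
    haveI : IsZariskiLocalAtSource (@Etale.{u}) :=
      HasRingHomProperty.instIsZariskiLocalAtSource (Q := RingHom.Etale)
    refine IsZariskiLocalAtSource.of_iSup_eq_top (P := @Etale.{u}) U ?_ hU
    exact eq_top_iff.2 fun x _ => TopologicalSpace.Opens.mem_iSup.2 ⟨x, hxU x⟩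
  haveI := het
  have hstalk : ∀ x : X, CAlg2.IsGeomUnibranch (X.presheaf.stalk x) ∧ IsDomain (X.presheaf.stalk x) := fun x => by
    obtain ⟨h1, h2⟩ := HensFormalLib.geomUnibranch_stalk_of_smooth f x (hY _)
    exact ⟨h1, h2 inferInstance⟩
  -- at each point only one generization lies over the generic point
  have huniq : ∀ x a b : X, a ⤳ x → b ⤳ x → f a = genericPoint Y → f b = genericPoint Y → a = b := by
    intro x a b ha hb hfa hfb
    obtain ⟨W, hW, hxW⟩ : ∃ W : X.Opens, IsAffineOpen W ∧ x ∈ W := by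
      obtain ⟨_, ⟨W, hW, rfl⟩, hxW, -⟩ :=
        X.isBasis_affineOpens.exists_subset_of_mem_open (Set.mem_univ x) isOpen_univ
      exact ⟨W, hW, hxW⟩
    haveI := (hstalk x).2
    obtain ⟨a', ha'⟩ : a ∈ Set.range (X.fromSpecStalk x) := by rw [X.range_fromSpecStalk]; exact ha
    obtain ⟨b', hb'⟩ : b ∈ Set.range (X.fromSpecStalk x) := by rw [X.range_fromSpecStalk]; exact hb
    obtain ⟨c, hc⟩ : ∃ c : X, c ⤳ a ∧ c ⤳ b := by
      refine ⟨X.fromSpecStalk x ⟨⊥, Ideal.isPrime_bot⟩, ?_, ?_⟩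
      · rw [← ha']
        exact ((PrimeSpectrum.le_iff_specializes _ a').1 bot_le).map (X.fromSpecStalk x).continuous
      · rw [← hb']
        exact ((PrimeSpectrum.le_iff_specializes _ b').1 bot_le).map (X.fromSpecStalk x).continuous
    have hfc : f c = genericPoint Y :=
      (genericPoint_spec Y).eq (show IsGenericPoint (f c) ⊤ from by
        refine le_antisymm (Set.subset_univ _) ?_
        rw [Set.top_eq_univ, ← (genericPoint_spec Y).def, ← hfa]
        exact closure_minimal (Set.singleton_subset_iff.2 (specializes_iff_mem_closure.1 (hc.1.map f.continuous)))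
          isClosed_closure) |>.symm
    haveI : LocallyQuasiFinite f := locallyQuasiFinite_of_unramified f
    have hdisc := f.isDiscrete_preimage_singleton (genericPoint Y)
    have h1 := hdisc.eq_of_specializes hc.1 (show c ∈ f ⁻¹' {genericPoint Y} from hfc) hfa
    have h2 := hdisc.eq_of_specializes hc.2 (show c ∈ f ⁻¹' {genericPoint Y} from hfc) hfb
    rw [← h1, ← h2]
  have hclosed : IsClopen {x : X | x₀ ⤳ x} := by
    refine ⟨by simp only [specializes_iff_mem_closure]; exact isClosed_closure, ?_⟩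
    rw [isOpen_iff_forall_mem_open]
    intro x hx
    obtain ⟨W, hW, hxW⟩ : ∃ W : Y.Opens, IsAffineOpen W ∧ f x ∈ W := by
      obtain ⟨_, ⟨W, hW, rfl⟩, hxW, -⟩ :=
        Y.isBasis_affineOpens.exists_subset_of_mem_open (Set.mem_univ (f x)) isOpen_univ
      exact ⟨W, hW, hxW⟩
    obtain ⟨V, hV, hxV, hVU⟩ : ∃ V : X.Opens, IsAffineOpen V ∧ x ∈ V ∧ V ≤ f ⁻¹ᵁ W := by
      obtain ⟨_, ⟨V, hV, rfl⟩, hxV, hVU⟩ :=
        X.isBasis_affineOpens.exists_subset_of_mem_open (show x ∈ f ⁻¹ᵁ W from hxW) (f ⁻¹ᵁ W).2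
      exact ⟨V, hV, hxV, hVU⟩
    have hfin := (finite_fibre_affine f W hW V hV hVU (genericPoint Y)).sdiff (t := {x₀})
    refine ⟨(V : Set X) \ ⋃ z ∈ {z : X | z ∈ V ∧ f z = genericPoint Y} \ {x₀}, closure {z}, ?_,
      V.2.sdiff (hfin.isClosed_biUnion fun z _ => isClosed_closure), hxV, ?_⟩
    · rintro z ⟨hzV, hz⟩
      obtain ⟨x', hs, hη⟩ := huniv z
      by_cases h : x' = x₀
      · exact h ▸ hs
      · exact absurd (Set.mem_biUnion (x := x') (show x' ∈ {z : X | z ∈ V ∧ f z = genericPoint Y} \ {x₀} from ⟨⟨hs.mem_open V.2 hzV, hη⟩, h⟩)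
          (specializes_iff_mem_closure.1 hs)) hz
    · intro hmem
      obtain ⟨z, hz, hzx⟩ := Set.mem_iUnion₂.1 hmem
      exact hz.2 (huniq x z x₀ (specializes_iff_mem_closure.2 hzx) hx hz.1.2 hx₀)
  have hgen : ∀ x : X, x₀ ⤳ x := fun x => by
    have := hclosed.eq_univ ⟨x₀, specializes_rfl⟩
    exact Set.eq_univ_iff_forall.1 this x
  haveI : IrreducibleSpace X := by
    haveI : PreirreducibleSpace X := ⟨by
      rw [show (Set.univ : Set X) = closure {x₀} from
        (Set.eq_univ_of_forall fun x => specializes_iff_mem_closure.1 (hgen x)).symm]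
      exact isIrreducible_singleton.closure.isPreirreducible⟩
    exact { toNonempty := ⟨x₀⟩ }
  haveI : ∀ x : X, _root_.IsReduced (X.presheaf.stalk x) := fun x => by
    haveI := (hstalk x).2; infer_instance
  haveI : IsReduced X := isReduced_of_isReduced_stalk X
  exact ⟨het, isIntegral_of_irreducibleSpace_of_isReduced X, fun x => (hstalk x).1⟩

end UnramGULib
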