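import Groth.Agent.UnramGULib.Ring
import Mathlib.AlgebraicGeometry.Morphisms.Etale
import Mathlib.AlgebraicGeometry.Morphisms.FormallyUnramified
import Mathlib.AlgebraicGeometry.Morphisms.Flat
import Mathlib.AlgebraicGeometry.FunctionField

/-! Unramified morphisms to geometrically unibranch schemes. -/

set_option autoImplicit false
set_option linter.style.haveILetI false
set_option maxHeartbeats 1000000
universe u

open CategoryTheory AlgebraicGeometry

namespace UnramGULib

theorem appLE_of_ι {X Y : Scheme.{u}} {P : MorphismProperty Scheme.{u}} {Q : ∀ {R S : Type u} [CommRing R] [CommRing S], (R →+* S) → Prop}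
    [HasRingHomProperty P Q] (f : X ⟶ Y) (W : Y.Opens) (hW : IsAffineOpen W) (V : X.Opens) (hV : IsAffineOpen V)
    (e : V ≤ f ⁻¹ᵁ W) (h : P (f.resLE W V e)) : Q (f.appLE W V e).hom := by
  haveI : IsAffine (W : Scheme.{u}) := hW
  haveI : IsAffine (V : Scheme.{u}) := hV
  exact ((HasRingHomProperty.isLocal_ringHomProperty P).respectsIso.arrow_mk_iso_iff (arrowResLEAppIso f W V e)).1
    ((HasRingHomProperty.iff_of_isAffine (P := P)).1 h)

theorem resLE_of_appLE {X Y : Scheme.{u}} {P : MorphismProperty Scheme.{u}} {Q : ∀ {R S : Type u} [CommRing R] [CommRing S], (R →+* S) → Prop}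
    [HasRingHomProperty P Q] (f : X ⟶ Y) (W : Y.Opens) (hW : IsAffineOpen W) (V : X.Opens) (hV : IsAffineOpen V)
    (e : V ≤ f ⁻¹ᵁ W) (h : Q (f.appLE W V e).hom) : P (f.resLE W V e) := by
  haveI : IsAffine (W : Scheme.{u}) := hW
  haveI : IsAffine (V : Scheme.{u}) := hV
  exact (HasRingHomProperty.iff_of_isAffine (P := P)).2
    (((HasRingHomProperty.isLocal_ringHomProperty P).respectsIso.arrow_mk_iso_iff (arrowResLEAppIso f W V e)).2 h)

theorem etale_ι_comp {X Y : Scheme.{u}} (f : X ⟶ Y) (W : Y.Opens) (V : X.Opens) (e : V ≤ f ⁻¹ᵁ W)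
    [Etale (f.resLE W V e)] : Etale (V.ι ≫ f) := by
  rw [← Scheme.Hom.resLE_comp_ι f e]
  infer_instance

set_option backward.defeqAttrib.useBackward true in
set_option backward.isDefEq.respectTransparency false in
theorem exists_etale_nbhd {X Y : Scheme.{u}} (f : X ⟶ Y) [LocallyOfFiniteType f] (x : X)
    (hd : IsDomain (Y.presheaf.stalk (f x))) (hY : CAlg2.IsGeomUnibranch (Y.presheaf.stalk (f x)))
    (hinj : Function.Injective (f.stalkMap x)) (hunr : ∃ U : X.Opens, x ∈ U ∧ FormallyUnramified (U.ι ≫ f))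
    (hor : IsIntegral Y ∨ LocallyOfFinitePresentation f) : ∃ U : X.Opens, x ∈ U ∧ Etale (U.ι ≫ f) := by
  obtain ⟨U, hxU, hU⟩ := hunr
  obtain ⟨W, hW, hxW⟩ : ∃ W : Y.Opens, IsAffineOpen W ∧ f x ∈ W := by
    obtain ⟨_, ⟨W, hW, rfl⟩, hxW, -⟩ :=
      Y.isBasis_affineOpens.exists_subset_of_mem_open (Set.mem_univ (f x)) isOpen_univ
    exact ⟨W, hW, hxW⟩
  obtain ⟨V, hV, hxV, hVU⟩ : ∃ V : X.Opens, IsAffineOpen V ∧ x ∈ V ∧ V ≤ U ⊓ f ⁻¹ᵁ W := by
    obtain ⟨_, ⟨V, hV, rfl⟩, hxV, hVU⟩ :=
      X.isBasis_affineOpens.exists_subset_of_mem_open (show x ∈ U ⊓ f ⁻¹ᵁ W from ⟨hxU, hxW⟩) (U ⊓ f ⁻¹ᵁ W).2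
    exact ⟨V, hV, hxV, hVU⟩
  have hVW : V ≤ f ⁻¹ᵁ W := fun z hz => (hVU hz).2
  have hVU' : V ≤ U := fun z hz => (hVU hz).1
  haveI := hU
  haveI : FormallyUnramified (f.resLE W V hVW ≫ W.ι) := by
    rw [Scheme.Hom.resLE_comp_ι, ← X.homOfLE_ι hVU', Category.assoc]
    exact MorphismProperty.comp_mem @FormallyUnramified _ _ inferInstance hU
  have hru : FormallyUnramified (f.resLE W V hVW) := FormallyUnramified.of_comp _ W.ι
  have hu := appLE_of_ι (P := @FormallyUnramified) f W hW V hV hVW hru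
  have hft := f.finiteType_appLE hW hV hVW
  algebraize [(f.appLE W V hVW).hom]
  let p := (hW.primeIdealOf ⟨f x, hVW hxV⟩).asIdeal
  let q := (hV.primeIdealOf ⟨x, hxV⟩).asIdeal
  haveI : q.LiesOver p := ⟨congr($(IsAffineOpen.comap_primeIdealOf_appLE W hW V hV hVW hxV).1).symm⟩
  letI aW := TopCat.Presheaf.algebra_section_stalk Y.presheaf (⟨f x, hVW hxV⟩ : W)
  haveI : IsLocalization.AtPrime (Y.presheaf.stalk (f x)) p := hW.isLocalization_stalk ⟨f x, hVW hxV⟩
  letI aV := TopCat.Presheaf.algebra_section_stalk X.presheaf (⟨x, hxV⟩ : V)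
  haveI : IsLocalization.AtPrime (X.presheaf.stalk x) q := hV.isLocalization_stalk ⟨x, hxV⟩
  let eY : Y.presheaf.stalk (f x) ≃+* Localization.AtPrime p :=
    (IsLocalization.algEquiv p.primeCompl _ (Localization.AtPrime p)).toRingEquiv
  haveI : Algebra.IsUnramifiedAt Γ(Y, W) q :=
    haveI : Algebra.FormallyUnramified Γ(X, V) (Localization.AtPrime q) :=
      .of_isLocalization q.primeCompl
    Algebra.FormallyUnramified.comp Γ(Y, W) Γ(X, V) (Localization.AtPrime q)
  have hinj' : Function.Injective (Localization.localRingHom p q (algebraMap Γ(Y, W) Γ(X, V)) (q.over_def p)) := by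
    refine (injective_iff_map_eq_zero _).2 fun z hz => ?_
    obtain ⟨a, s, rfl⟩ := IsLocalization.exists_mk'_eq p.primeCompl z
    rw [Localization.localRingHom_mk', IsLocalization.mk'_eq_zero_iff] at hz
    rw [IsLocalization.mk'_eq_zero_iff]
    obtain ⟨t, ht⟩ := hz
    have h1 : X.presheaf.germ V x hxV (f.appLE W V hVW a) = 0 := by
      have := (IsLocalization.map_eq_zero_iff q.primeCompl (X.presheaf.stalk x) (algebraMap Γ(Y, W) Γ(X, V) a)).2 ⟨t, ht⟩
      exact this
    have h2 : f.stalkMap x (Y.presheaf.germ W (f x) (hVW hxV) a) = 0 := by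
      refine (Scheme.Hom.germ_stalkMap_apply f W x (hVW hxV) a).trans ?_
      rw [Scheme.Hom.appLE, CommRingCat.comp_apply, TopCat.Presheaf.germ_res_apply] at h1
      exact h1
    have h3 : algebraMap Γ(Y, W) (Y.presheaf.stalk (f x)) a = 0 := hinj (by rw [map_zero]; exact h2)
    exact (IsLocalization.map_eq_zero_iff p.primeCompl (Y.presheaf.stalk (f x)) a).1 h3
  have hor' : IsDomain Γ(Y, W) ∨ Algebra.FinitePresentation Γ(Y, W) Γ(X, V) := by
    rcases hor with h | h
    · haveI := h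
      haveI : Nonempty W := ⟨⟨f x, hVW hxV⟩⟩
      exact Or.inl inferInstance
    · haveI := h
      exact Or.inr (f.finitePresentation_appLE hW hV hVW)
  obtain ⟨g, hgq, hg⟩ := exists_etale_away Γ(Y, W) Γ(X, V) q p (HensFormalLib.isGeomUnibranch_of_ringEquiv _ _ eY hY)
    (eY.symm.toMulEquiv.isDomain _) hinj' hor'
  refine ⟨X.basicOpen g, ?_, ?_⟩
  · rwa [← PrimeSpectrum.mem_basicOpen, IsAffineOpen.primeIdealOf, ← hV.fromSpec_preimage_basicOpen,
      Scheme.Hom.mem_preimage, ← Scheme.Hom.comp_apply, IsAffineOpen.isoSpec_hom,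
      IsAffineOpen.toSpecΓ_fromSpec] at hgq
  · have := hV.isLocalization_basicOpen g
    rw [← RingHom.etale_algebraMap] at hg
    have hq : (f.appLE W (X.basicOpen g) ((X.basicOpen_le g).trans hVW)).hom.Etale := by
      convert! RingHom.Etale.respectsIso.1 _
        (IsLocalization.algEquiv (.powers g) _ Γ(X, X.basicOpen g)).toRingEquiv hg
      ext
      dsimp
      simp only [IsScalarTower.algebraMap_apply Γ(Y, W) Γ(X, V) (Localization _),
        IsLocalization.map_eq]
      simp only [RingHom.algebraMap_toAlgebra, RingHomCompTriple.comp_apply, ← ConcreteCategory.comp_apply,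
        Scheme.Hom.appLE_map]
    haveI : Etale (f.resLE W (X.basicOpen g) ((X.basicOpen_le g).trans hVW)) :=
      resLE_of_appLE (P := @Etale) f W hW _ (hV.basicOpen g) _ hq
    exact etale_ι_comp f W _ ((X.basicOpen_le g).trans hVW)

theorem injective_stalkMap_of_generization {X Y : Scheme.{u}} (f : X ⟶ Y) [IsIntegral Y] {x' x : X} (h : x' ⤳ x)
    (hη : f x' = genericPoint Y) : Function.Injective (f.stalkMap x) := by
  refine (injective_iff_map_eq_zero (f.stalkMap x).hom).2 fun a ha => ?_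
  have key : ∀ (η : Y), η = genericPoint Y → ∀ (hs : η ⤳ f x), Function.Injective (Y.presheaf.stalkSpecializes hs) ∧
      IsField (Y.presheaf.stalk η) := by
    rintro η rfl hs
    exact ⟨IsFractionRing.injective (Y.presheaf.stalk (f x)) Y.functionField, Field.toIsField Y.functionField⟩
  obtain ⟨h1, h2⟩ := key (f x') hη (f.base.hom.map_specializes h)
  have h3 : f.stalkMap x' (Y.presheaf.stalkSpecializes (f.base.hom.map_specializes h) a) = 0 := by
    rw [Scheme.Hom.stalkSpecializes_stalkMap_apply]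
    show X.presheaf.stalkSpecializes h ((f.stalkMap x).hom a) = 0
    rw [ha, map_zero]
  letI := h2.toField
  exact h1 ((((f.stalkMap x').hom).injective (h3.trans (map_zero _).symm)).trans (map_zero _).symm)

end UnramGULib
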