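import Groth.Agent.UnramGULib.Global
import Groth.Agent.AlgSpLib.SrcRing
import Mathlib.AlgebraicGeometry.Morphisms.UniversallyOpen
import Mathlib.RingTheory.RingHom.FaithfullyFlat

/-! Étale descent from an étale cover of a neighbourhood. -/

set_option autoImplicit false
set_option linter.style.haveILetI false
set_option maxHeartbeats 1000000
universe u

open CategoryTheory AlgebraicGeometry

namespace UnramGULib

theorem etale_nbhd_descends {X Y Z : Scheme.{u}} (f : X ⟶ Y) (g : Y ⟶ Z) (x : X) [Etale f] [Etale (f ≫ g)] :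
    ∃ V : Y.Opens, f x ∈ V ∧ Etale (V.ι ≫ g) := by
  obtain ⟨W, hW, hxW⟩ : ∃ W : Z.Opens, IsAffineOpen W ∧ g (f x) ∈ W := by
    obtain ⟨_, ⟨W, hW, rfl⟩, hxW, -⟩ :=
      Z.isBasis_affineOpens.exists_subset_of_mem_open (Set.mem_univ (g (f x))) isOpen_univ
    exact ⟨W, hW, hxW⟩
  obtain ⟨V, hV, hxV, hVW⟩ : ∃ V : Y.Opens, IsAffineOpen V ∧ f x ∈ V ∧ V ≤ g ⁻¹ᵁ W := by
    obtain ⟨_, ⟨V, hV, rfl⟩, hxV, hVU⟩ :=
      Y.isBasis_affineOpens.exists_subset_of_mem_open (show f x ∈ g ⁻¹ᵁ W from hxW) (g ⁻¹ᵁ W).2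
    exact ⟨V, hV, hxV, hVU⟩
  obtain ⟨U, hU, hxU, hUV⟩ : ∃ U : X.Opens, IsAffineOpen U ∧ x ∈ U ∧ U ≤ f ⁻¹ᵁ V := by
    obtain ⟨_, ⟨U, hU, rfl⟩, hxU, hUV⟩ :=
      X.isBasis_affineOpens.exists_subset_of_mem_open (show x ∈ f ⁻¹ᵁ V from hxV) (f ⁻¹ᵁ V).2
    exact ⟨U, hU, hxU, hUV⟩
  have hopen : IsOpen (f '' (U : Set X)) := Scheme.Hom.isOpenMap f _ U.2
  obtain ⟨c, hc, hxc⟩ : ∃ c : Γ(Y, V), ((Y.basicOpen c : Y.Opens) : Set Y) ⊆ f '' (U : Set X) ∧ f x ∈ Y.basicOpen c := by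
    obtain ⟨c, h1, h2⟩ := hV.exists_basicOpen_le (V := (⟨_, hopen⟩ : Y.Opens)) ⟨f x, x, hxU, rfl⟩ hxV
    exact ⟨c, h1, h2⟩
  let D := Y.basicOpen c
  let U' := X.basicOpen (f.appLE V U hUV c)
  have hD : IsAffineOpen D := hV.basicOpen c
  have hU' : IsAffineOpen U' := hU.basicOpen _
  have hU'eq : U' = U ⊓ f ⁻¹ᵁ D := by
    show X.basicOpen (f.appLE V U hUV c) = _
    rw [Scheme.Hom.appLE, CommRingCat.comp_apply, Scheme.basicOpen_res, ← Scheme.preimage_basicOpen]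
  have e : U' ≤ f ⁻¹ᵁ D := hU'eq.trans_le inf_le_right
  have e' : D ≤ g ⁻¹ᵁ W := (Y.basicOpen_le c).trans hVW
  haveI : IsAffine (D : Scheme.{u}) := hD
  haveI : IsAffine (U' : Scheme.{u}) := hU'
  haveI : Surjective (f.resLE D U' e) := ⟨fun y => by
    obtain ⟨z, hzU, hz⟩ := hc y.2
    have hzU' : z ∈ U' := by rw [hU'eq]; exact ⟨hzU, show f z ∈ D by rw [hz]; exact y.2⟩
    refine ⟨⟨z, hzU'⟩, Subtype.ext ?_⟩
    exact (congrArg (fun φ : (U' : Scheme.{u}) ⟶ Y => φ ⟨z, hzU'⟩) (Scheme.Hom.resLE_comp_ι f e)).trans hz⟩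
  have hff : (f.appLE D U' e).hom.FaithfullyFlat :=
    (RingHom.FaithfullyFlat.respectsIso.arrow_mk_iso_iff (arrowResLEAppIso f D U' e)).1
      ((Flat.flat_and_surjective_iff_faithfullyFlat_of_isAffine (f.resLE D U' e)).1 ⟨inferInstance, inferInstance⟩)
  have hB : (f.appLE D U' e).hom.Etale := HasRingHomProperty.appLE @Etale f inferInstance ⟨D, hD⟩ ⟨U', hU'⟩ e
  have hR : ((f ≫ g).appLE W U' (e.trans ((TopologicalSpace.Opens.map f.base).map (homOfLE e')).le)).hom.Etale :=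
    HasRingHomProperty.appLE @Etale (f ≫ g) inferInstance ⟨W, hW⟩ ⟨U', hU'⟩ _
  rw [← Scheme.Hom.appLE_comp_appLE f g W D U' e' e, CommRingCat.hom_comp] at hR
  algebraize [(g.appLE W D e').hom, (f.appLE D U' e).hom, (f.appLE D U' e).hom.comp (g.appLE W D e').hom]
  have hA : (g.appLE W D e').hom.Etale := AlgSpLib.etale_of_etale_faithfullyFlat_comp Γ(Z, W) Γ(Y, D) Γ(X, U')
  haveI : Etale (g.resLE W D e') := resLE_of_appLE (P := @Etale) g W hW D hD e' hA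
  exact ⟨D, hxc, etale_ι_comp g W D e'⟩

theorem etale_both_of_comp {X Y Z : Scheme.{u}} (f : X ⟶ Y) (g : Y ⟶ Z) [IsIntegral Y] (x : X)
    (hY : CAlg2.IsGeomUnibranch (Y.presheaf.stalk (f x))) (het : ∃ U : X.Opens, x ∈ U ∧ Etale (U.ι ≫ f ≫ g))
    (hsp : ∃ x' : X, x' ⤳ x ∧ f x' = genericPoint Y) :
    (∃ U : X.Opens, x ∈ U ∧ Etale (U.ι ≫ f)) ∧ ∃ V : Y.Opens, f x ∈ V ∧ Etale (V.ι ≫ g) := by
  obtain ⟨U, hx, hU⟩ := het
  obtain ⟨x', hs, hη⟩ := hsp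
  haveI : Etale ((U.ι ≫ f) ≫ g) := by rw [Category.assoc]; exact hU
  haveI : LocallyOfFiniteType (U.ι ≫ f) := locallyOfFiniteType_of_comp (U.ι ≫ f) g
  haveI : FormallyUnramified (U.ι ≫ f) := FormallyUnramified.of_comp (U.ι ≫ f) g
  let z : (U : Scheme.{u}) := ⟨x, hx⟩
  have hz' : (⟨x', hs.mem_open U.2 hx⟩ : (U : Scheme.{u})) ⤳ z := (subtype_specializes_iff _ _).2 hs
  obtain ⟨U₂, hzU₂, hU₂⟩ := exists_etale_nbhd (U.ι ≫ f) z inferInstance hY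
    (injective_stalkMap_of_generization (U.ι ≫ f) hz' hη)
    ⟨⊤, trivial, MorphismProperty.comp_mem @FormallyUnramified _ _ inferInstance inferInstance⟩ (Or.inl inferInstance)
  haveI : Etale (U₂.ι ≫ U.ι ≫ f) := hU₂
  refine ⟨⟨U.ι ''ᵁ U₂, ⟨z, hzU₂, rfl⟩, ?_⟩, ?_⟩
  · have h2 : (U.ι ''ᵁ U₂).ι ≫ f = (U.ι.isoImage U₂).inv ≫ U₂.ι ≫ U.ι ≫ f := by
      rw [← Scheme.Hom.isoImage_inv_ι_assoc]
    rw [h2]
    infer_instance
  · haveI : Etale (U₂.ι ≫ (U.ι ≫ f) ≫ g) := by rw [Category.assoc]; infer_instance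
    haveI : Etale ((U₂.ι ≫ U.ι ≫ f) ≫ g) := by simp only [Category.assoc] at this ⊢; exact this
    exact etale_nbhd_descends (U₂.ι ≫ U.ι ≫ f) g ⟨z, hzU₂⟩

end UnramGULib
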