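import Groth.Agent.HensFormalLib.SmoothBC
import Mathlib.RingTheory.Unramified.LocalStructure
import Mathlib.RingTheory.Flat.TorsionFree
import Mathlib.RingTheory.Ideal.MinimalPrime.Noetherian

/-! Unramified algebras over geometrically unibranch domains. -/

set_option autoImplicit false
set_option linter.style.haveILetI false
set_option maxHeartbeats 1000000
universe u

open IsLocalRing

namespace UnramGULib

theorem kills_of_finitePresentation {A C B : Type u} [CommRing A] [CommRing C] [CommRing B] [Algebra A C] [Algebra A B]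
    [Algebra.FinitePresentation A C] [Algebra.FinitePresentation A B] (φ : C →ₐ[A] B) (hφ : Function.Surjective φ)
    (Q : Ideal C) [Q.IsPrime] (h0 : ∀ c ∈ RingHom.ker φ, algebraMap C (Localization.AtPrime Q) c = 0) :
    ∃ h : C, h ∉ Q ∧ ∀ c ∈ RingHom.ker φ, h * c = 0 := by
  classical
  obtain ⟨s, hs⟩ : (RingHom.ker φ).FG := Algebra.FinitePresentation.ker_fG_of_surjective φ hφ
  have : ∀ c ∈ s, ∃ t : Q.primeCompl, (t : C) * c = 0 := fun c hc =>
    (IsLocalization.map_eq_zero_iff Q.primeCompl _ c).1 (h0 c (hs ▸ Ideal.subset_span hc))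
  choose t ht using this
  refine ⟨∏ c ∈ s.attach, (t c.1 c.2 : C), fun hmem => ?_, fun c hc => ?_⟩
  · exact (Submonoid.prod_mem Q.primeCompl (fun c _ => (t c.1 c.2).2) : _ ∈ Q.primeCompl) hmem
  · rw [← hs] at hc
    induction hc using Submodule.span_induction with
    | mem c hc =>
      rw [← Finset.mul_prod_erase s.attach _ (Finset.mem_attach s ⟨c, hc⟩), mul_right_comm, ht c hc, zero_mul]
    | zero => exact mul_zero _
    | add x y _ _ hx hy => rw [mul_add, hx, hy, add_zero]
    | smul a x _ hx => rw [smul_eq_mul, mul_left_comm, hx, mul_zero]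

theorem kills_of_isDomain {A C B : Type u} [CommRing A] [IsDomain A] [CommRing C] [CommRing B] [Algebra A C] [Algebra A B]
    [Algebra.Etale A C] (φ : C →ₐ[A] B) (Q : Ideal C) [Q.IsPrime] [IsDomain (Localization.AtPrime Q)]
    (h0 : ∀ c ∈ RingHom.ker φ, algebraMap C (Localization.AtPrime Q) c = 0) :
    ∃ h : C, h ∉ Q ∧ ∀ c ∈ RingHom.ker φ, h * c = 0 := by
  classical
  let K := FractionRing A
  open TensorProduct in
  haveI : IsReduced (K ⊗[A] C) := Algebra.FormallyUnramified.isReduced_of_field K _
  open TensorProduct in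
  let ι : C →ₐ[A] K ⊗[A] C := Algebra.TensorProduct.includeRight
  have hι : Function.Injective ι := by
    intro a b hab
    apply (TensorProduct.lid A C).symm.injective
    exact Module.Flat.rTensor_preserves_injective_linearMap (M := C) (Algebra.linearMap A K) (IsFractionRing.injective A K)
      (by simpa [ι] using hab)
  haveI : IsReduced C := isReduced_of_injective ι hι
  open TensorProduct in
  haveI : IsArtinianRing (K ⊗[A] C) := by
    haveI : Module.Finite K (K ⊗[A] C) := Algebra.FormallyUnramified.finite_of_free K _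
    exact IsArtinianRing.of_finite K _
  have hfin : (minimalPrimes C).Finite := by
    refine ((minimalPrimes.finite_of_isNoetherianRing (TensorProduct A K C)).image (Ideal.comap ι)).subset ?_
    intro p hp
    obtain ⟨P, hP, hPp⟩ := Ideal.exists_minimalPrimes_comap_eq ι.toRingHom p
      (by rwa [← RingHom.ker_eq_comap_bot, (RingHom.injective_iff_ker_eq_bot _).1 (show Function.Injective ι.toRingHom from hι)])
    exact ⟨P, hP, hPp⟩
  let P0 := RingHom.ker (algebraMap C (Localization.AtPrime Q))
  haveI : P0.IsPrime := RingHom.ker_isPrime _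
  have hmin : ∀ p ∈ minimalPrimes C, p ≤ Q → p = P0 := fun p hp hpQ => by
    have hle : P0 ≤ p := fun x hx => by
      obtain ⟨t, ht⟩ := (IsLocalization.map_eq_zero_iff Q.primeCompl (Localization.AtPrime Q) x).1 hx
      exact (hp.1.1.mem_or_mem (ht ▸ p.zero_mem)).resolve_left fun h => t.2 (hpQ h)
    exact le_antisymm (hp.2 ⟨inferInstance, bot_le⟩ hle) hle
  let s := hfin.toFinset.filter (fun p : Ideal C => ¬ p ≤ Q)
  have hle : ¬ s.inf id ≤ Q := fun hle => by
    obtain ⟨p, hp, hpQ⟩ := (Ideal.IsPrime.inf_le' ‹Q.IsPrime›).1 hle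
    exact (Finset.mem_filter.1 hp).2 hpQ
  obtain ⟨h, hh, hhQ⟩ := SetLike.not_le_iff_exists.1 hle
  refine ⟨h, hhQ, fun c hc => IsReduced.eq_zero _ ?_⟩
  rw [← mem_nilradical, nilradical, Ideal.zero_eq_bot, ← Ideal.sInf_minimalPrimes, Ideal.mem_sInf]
  intro p hp
  by_cases hpQ : p ≤ Q
  · exact p.mul_mem_left _ ((hmin p hp hpQ).ge (h0 c hc))
  · exact p.mul_mem_right _ (Finset.inf_le (f := id) (Finset.mem_filter.2 ⟨hfin.mem_toFinset.2 hp, hpQ⟩) hh)

theorem injective_awayMap {C B : Type u} [CommRing C] [CommRing B] (φ : C →+* B) (h : C)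
    (hh : ∀ c, φ c = 0 → h * c = 0) : Function.Injective (Localization.awayMap φ h) := by
  refine (injective_iff_map_eq_zero _).2 fun z hz => ?_
  obtain ⟨x, ⟨_, m, rfl⟩, rfl⟩ := IsLocalization.exists_mk'_eq (Submonoid.powers h) z
  rw [Localization.awayMap, IsLocalization.Away.map, IsLocalization.map_mk', IsLocalization.mk'_eq_zero_iff] at hz
  obtain ⟨⟨_, k, rfl⟩, hk⟩ := hz
  rw [IsLocalization.mk'_eq_zero_iff]
  refine ⟨⟨h ^ (k + 1), k + 1, rfl⟩, ?_⟩
  show h ^ (k + 1) * x = 0
  rw [pow_succ', mul_assoc]
  exact hh _ (by rw [map_mul, map_pow]; exact hk)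

theorem exists_etale_away (A B : Type u) [CommRing A] [CommRing B] [Algebra A B] [Algebra.FiniteType A B]
    (q : Ideal B) [q.IsPrime] (p : Ideal A) [p.IsPrime] [q.LiesOver p] [Algebra.IsUnramifiedAt A q]
    (hA : CAlg2.IsGeomUnibranch (Localization.AtPrime p)) (hd : IsDomain (Localization.AtPrime p))
    (hinj : Function.Injective (Localization.localRingHom p q (algebraMap A B) (q.over_def p)))
    (hAB : IsDomain A ∨ Algebra.FinitePresentation A B) :
    ∃ g : B, g ∉ q ∧ Algebra.Etale A (Localization.Away g) := by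
  haveI := hd
  obtain ⟨f, hfq, P, φ, hφ⟩ := Algebra.IsUnramifiedAt.exists_hasStandardEtaleSurjectionOn (R := A) q
  let C := P.Ring
  let Bf := Localization.Away f
  have hdisj : Disjoint (Submonoid.powers f : Set B) (q : Set B) :=
    (Ideal.disjoint_powers_iff_notMem_of_isPrime _).mpr hfq
  let qf := q.map (algebraMap B Bf)
  haveI : qf.IsPrime := IsLocalization.isPrime_of_isPrime_disjoint (.powers f) _ q ‹_› hdisj
  have hqf : qf.comap (algebraMap B Bf) = q :=
    IsLocalization.under_map_of_isPrime_disjoint (.powers f) Bf ‹q.IsPrime› hdisj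
  let Q := qf.comap φ.toRingHom
  have hQp : p = Q.comap (algebraMap A C) := by
    rw [q.over_def p, Ideal.under_def, ← hqf, Ideal.comap_comap, Ideal.comap_comap,
      ← IsScalarTower.algebraMap_eq A B Bf]
    exact congrArg (fun g => Ideal.comap g qf) φ.comp_algebraMap.symm
  obtain ⟨-, hdom⟩ := HensFormalLib.geomUnibranch_atPrime_of_smooth A C Q p hQp hA
  haveI := hdom hd
  haveI : Q.LiesOver p := ⟨hQp⟩
  letI := Localization.AtPrime.algebraOfLiesOver p Q
  haveI : IsLocalHom (algebraMap (Localization.AtPrime p) (Localization.AtPrime Q)) :=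
    inferInstanceAs (IsLocalHom (Localization.localRingHom p Q (algebraMap A C) (Q.over_def p)))
  haveI : Module.Flat (Localization.AtPrime p) (Localization.AtPrime Q) :=
    RingHom.flat_algebraMap_iff.mp <| RingHom.Flat.localRingHom (RingHom.flat_algebraMap_iff.mpr inferInstance) ..
  haveI : Module.FaithfullyFlat (Localization.AtPrime p) (Localization.AtPrime Q) :=
    Module.FaithfullyFlat.of_flat_of_isLocalHom
  let ψ : Localization.AtPrime Q →+* Localization.AtPrime qf := Localization.localRingHom Q qf φ.toRingHom rfl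
  haveI : IsLocalization.AtPrime (Localization.AtPrime qf) (qf.comap (algebraMap B Bf)) :=
    IsLocalization.isLocalization_isLocalization_atPrime_isLocalization (.powers f) (Localization.AtPrime qf) qf
  haveI hLq : IsLocalization.AtPrime (Localization.AtPrime qf) q := by
    show IsLocalization q.primeCompl _
    simp_rw [← hqf]
    infer_instance
  let e : Localization.AtPrime q ≃ₐ[B] Localization.AtPrime qf :=
    IsLocalization.algEquiv q.primeCompl (Localization.AtPrime q) (Localization.AtPrime qf)
  have hψ : ∀ x, ψ (algebraMap (Localization.AtPrime p) (Localization.AtPrime Q) x) =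
      e (Localization.localRingHom p q (algebraMap A B) (q.over_def p) x) := by
    refine fun x => RingHom.congr_fun (f := ψ.comp (algebraMap _ _))
      (g := e.toRingEquiv.toRingHom.comp (Localization.localRingHom p q (algebraMap A B) (q.over_def p))) ?_ x
    refine IsLocalization.ringHom_ext p.primeCompl (RingHom.ext fun a => ?_)
    show ψ (Localization.localRingHom p Q (algebraMap A C) _ (algebraMap A _ a)) =
      e (Localization.localRingHom p q (algebraMap A B) _ (algebraMap A _ a))
    rw [Localization.localRingHom_to_map, Localization.localRingHom_to_map, Localization.localRingHom_to_map, e.commutes,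
      IsScalarTower.algebraMap_apply B Bf (Localization.AtPrime qf), ← IsScalarTower.algebraMap_apply A B Bf]
    exact congrArg _ (φ.commutes a)
  -- the kernel of `ψ` meets `A_p` trivially, so lies in a prime over `0`, which is `0`
  have hker : RingHom.ker ψ = ⊥ := by
    let S := Submonoid.map (algebraMap (Localization.AtPrime p) (Localization.AtPrime Q)) (nonZeroDivisors _)
    have hS : Disjoint (RingHom.ker ψ : Set (Localization.AtPrime Q)) (S : Set (Localization.AtPrime Q)) := by
      refine Set.disjoint_right.2 ?_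
      rintro _ ⟨x, hx, rfl⟩ h0
      have h1 : e (Localization.localRingHom p q (algebraMap A B) (q.over_def p) x) = 0 := (hψ x).symm.trans h0
      rw [map_eq_zero_iff e e.injective, map_eq_zero_iff _ hinj] at h1
      exact nonZeroDivisors.ne_zero hx h1
    obtain ⟨P0, hP0, hle, hdis⟩ := Ideal.exists_le_prime_disjoint _ S hS
    haveI := hP0
    have hunder : (⊥ : Ideal (Localization.AtPrime Q)).under A = P0.under A := by
      refine le_antisymm (Ideal.comap_mono bot_le) fun a ha => ?_
      rw [Ideal.under_def, Ideal.mem_comap, Ideal.mem_bot, IsScalarTower.algebraMap_apply A (Localization.AtPrime p)]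
      by_contra hne
      exact Set.disjoint_left.1 hdis (show algebraMap A (Localization.AtPrime Q) a ∈ P0 from ha)
        ⟨algebraMap A (Localization.AtPrime p) a, mem_nonZeroDivisors_of_ne_zero (fun h => hne (by rw [h, map_zero])),
          (IsScalarTower.algebraMap_apply A (Localization.AtPrime p) _ a).symm⟩
    have hbot := Algebra.QuasiFinite.eq_of_le_of_under_eq (R := A) (⊥ : Ideal (Localization.AtPrime Q)) P0 bot_le hunder
    exact le_bot_iff.1 (hle.trans hbot.ge)
  have h0 : ∀ c ∈ RingHom.ker φ, algebraMap C (Localization.AtPrime Q) c = 0 := fun c hc => by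
    rw [← Ideal.mem_bot, ← hker, RingHom.mem_ker, Localization.localRingHom_to_map]
    show algebraMap Bf _ (φ c) = 0
    rw [RingHom.mem_ker.1 hc, map_zero]
  obtain ⟨h, hhQ, hh⟩ : ∃ h : C, h ∉ Q ∧ ∀ c ∈ RingHom.ker φ, h * c = 0 := by
    rcases hAB with hd' | hfp
    · haveI := hd'; exact kills_of_isDomain φ Q h0
    · haveI := hfp
      haveI : Algebra.FinitePresentation B Bf := IsLocalization.Away.finitePresentation f
      haveI : Algebra.FinitePresentation A Bf := Algebra.FinitePresentation.trans A B Bf
      exact kills_of_finitePresentation φ hφ Q h0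
  obtain ⟨⟨b, ⟨_, n, rfl⟩⟩, hb⟩ := IsLocalization.surj (Submonoid.powers f) (φ h)
  obtain ⟨u, hu⟩ := hφ (algebraMap B Bf (f ^ n))
  let h' := h * u
  have hh' : ∀ c ∈ RingHom.ker φ, h' * c = 0 := fun c hc => by rw [mul_right_comm, hh c hc, zero_mul]
  have hφh' : φ h' = algebraMap B Bf b := by rw [map_mul, hu]; exact hb
  have hbq : b ∉ q := fun hb' => by
    have h1 : φ h' ∈ qf := hφh' ▸ Ideal.mem_map_of_mem _ hb'
    rw [map_mul, hu] at h1
    rcases ‹qf.IsPrime›.mem_or_mem h1 with h2 | h2
    · exact hhQ h2
    · exact hfq (‹q.IsPrime›.mem_of_pow_mem n (hqf.le h2))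
  haveI : IsLocalization.Away (f * b) (Localization.Away (φ h')) :=
    hφh' ▸ IsLocalization.Away.mul' (Localization.Away f) _ _ _
  let θ : Localization.Away h' →ₐ[A] Localization.Away (φ h') := Localization.awayMapₐ φ h'
  have hθs : Function.Surjective θ :=
    IsLocalization.Away.mapₐ_surjective_of_surjective (Aₚ := Localization.Away h') (Bₚ := Localization.Away (φ h')) h' hφ
  have hθi : Function.Injective θ :=
    injective_awayMap φ.toRingHom h' fun c hc => hh' c (RingHom.mem_ker.2 hc)
  haveI : Algebra.Etale C (Localization.Away h') := Algebra.Etale.of_isLocalizationAway h'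
  haveI : Algebra.Etale A (Localization.Away h') := Algebra.Etale.comp A C _
  refine ⟨f * b, ‹q.IsPrime›.mul_notMem hfq hbq, Algebra.Etale.of_equiv ((AlgEquiv.ofBijective θ ⟨hθi, hθs⟩).trans ?_)⟩
  exact (IsLocalization.algEquiv (Submonoid.powers (f * b)) (Localization.Away (φ h')) (Localization.Away (f * b))).restrictScalars A

end UnramGULib
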