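import Groth.Agent.BranchLib.Local
import Mathlib.RingTheory.IntegralClosure.GoingDown
import Mathlib.RingTheory.IntegralClosure.IntegrallyClosed

/-! Going down over unibranch local domains. -/

set_option autoImplicit false
set_option linter.style.haveILetI false
universe u

noncomputable section

namespace UnramGULib

theorem exists_prime_le_of_isUnibranch {A B : Type u} [CommRing A] [IsDomain A] [IsLocalRing A]
    (hA : CAlg2.IsUnibranch A) [CommRing B] [IsDomain B] [Algebra A B] (hinj : Function.Injective (algebraMap A B))
    [Algebra.IsIntegral A B] (n : Ideal B) [n.IsPrime] (hn : n.comap (algebraMap A B) = IsLocalRing.maximalIdeal A)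
    (p : Ideal A) [p.IsPrime] : ∃ q : Ideal B, q.IsPrime ∧ q ≤ n ∧ q.comap (algebraMap A B) = p := by
  let K := FractionRing A
  let L := FractionRing B
  have hg : Function.Injective (algebraMap A L) := by
    rw [IsScalarTower.algebraMap_eq A B L]
    exact (IsFractionRing.injective B L).comp hinj
  letI : Algebra K L := (IsFractionRing.lift hg).toAlgebra
  haveI : IsScalarTower A K L := IsScalarTower.of_algebraMap_eq fun a => (IsFractionRing.lift_algebraMap hg a).symm
  let A' := integralClosure A K
  let C := integralClosure A L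
  haveI : IsFractionRing A' K := integralClosure.isFractionRing_of_finite_extension K K
  haveI : IsIntegrallyClosed A' := integralClosure.isIntegrallyClosedOfFiniteExtension K
  haveI : IsLocalRing A' := by
    obtain ⟨χ, hχ, -, hχr, hχi⟩ := BranchLib.exists_toFrac (A := A) K
    haveI := hA.2
    refine .of_surjective' (χ.codRestrict A'.toSubring fun c => hχi c) fun z => ?_
    obtain ⟨c, hc⟩ := hχr z.1 z.2
    exact ⟨c, Subtype.ext hc⟩
  let i : A' →ₐ[A] C := (IsScalarTower.toAlgHom A K L).mapIntegralClosure
  let j : B →ₐ[A] C := (IsScalarTower.toAlgHom A B L).codRestrict C fun b =>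
    (Algebra.IsIntegral.isIntegral b).map (IsScalarTower.toAlgHom A B L)
  letI : Algebra A' C := i.toRingHom.toAlgebra
  haveI : IsScalarTower A A' C := IsScalarTower.of_algebraMap_eq fun a => (i.commutes a).symm
  letI : Algebra B C := j.toRingHom.toAlgebra
  haveI : IsScalarTower A B C := IsScalarTower.of_algebraMap_eq fun a => (j.commutes a).symm
  haveI : Algebra.IsIntegral A C := inferInstance
  haveI : Algebra.IsIntegral A' C := Algebra.IsIntegral.tower_top (R := A)
  haveI : Algebra.IsIntegral B C := Algebra.IsIntegral.tower_top (R := A)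
  haveI : FaithfulSMul A' C := (faithfulSMul_iff_algebraMap_injective _ _).2 fun x y h =>
    Subtype.ext ((algebraMap K L).injective (congrArg Subtype.val h))
  have hj : Function.Injective (algebraMap B C) := fun x y h => IsFractionRing.injective B L (congrArg Subtype.val h)
  obtain ⟨n', -, hn'p, hn'⟩ := Ideal.exists_ideal_over_prime_of_isIntegral n (⊥ : Ideal C)
    (by rw [← RingHom.ker_eq_comap_bot, (RingHom.injective_iff_ker_eq_bot _).1 hj]; exact bot_le)
  haveI := hn'p
  haveI : Algebra.IsIntegral A A' := inferInstance
  have hmax : (n'.comap (algebraMap A' C)).comap (algebraMap A A') = IsLocalRing.maximalIdeal A := by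
    rw [Ideal.comap_comap, ← IsScalarTower.algebraMap_eq, IsScalarTower.algebraMap_eq A B C, ← Ideal.comap_comap, hn', hn]
  have hm' : n'.comap (algebraMap A' C) = IsLocalRing.maximalIdeal A' := IsLocalRing.eq_maximalIdeal
    (Ideal.isMaximal_of_isIntegral_of_isMaximal_comap (R := A) _ (hmax ▸ IsLocalRing.maximalIdeal.isMaximal A))
  obtain ⟨p', -, hp'p, hp'⟩ := Ideal.exists_ideal_over_prime_of_isIntegral p (⊥ : Ideal A') (by
    rw [← RingHom.ker_eq_comap_bot,
      (RingHom.injective_iff_ker_eq_bot _).1 (show Function.Injective (algebraMap A A') from fun x y h =>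
        IsFractionRing.injective A K (congrArg Subtype.val h))]
    exact bot_le)
  haveI := hp'p
  haveI : n'.LiesOver (IsLocalRing.maximalIdeal A') := ⟨hm'.symm⟩
  obtain ⟨q', hq'le, hq'p, hq'⟩ := Ideal.exists_ideal_le_liesOver_of_le (p := p') (q := IsLocalRing.maximalIdeal A') n'
    (IsLocalRing.le_maximalIdeal hp'p.ne_top)
  haveI := hq'p
  refine ⟨q'.comap (algebraMap B C), inferInstance, (Ideal.comap_mono hq'le).trans hn'.le, ?_⟩
  rw [Ideal.comap_comap, ← IsScalarTower.algebraMap_eq, IsScalarTower.algebraMap_eq A A' C, ← Ideal.comap_comap]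
  exact (congrArg (Ideal.comap (algebraMap A A')) hq'.over.symm).trans hp'

end UnramGULib
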